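/-! Data for the Schur multiplier of `M₁₂` (helper17, generated). -/

set_option autoImplicit false

namespace Cfsg.Agent.Helper17.SchurCos.M12

def Ta : List Nat := [6, 2, 1, 9, 4, 15, 0, 21, 8, 3, 10, 22, 13, 12, 14, 5, 16, 17, 18, 23, 20, 7, 11, 19]

def Tai : List Nat := [6, 2, 1, 9, 4, 15, 0, 21, 8, 3, 10, 22, 13, 12, 14, 5, 16, 17, 18, 23, 20, 7, 11, 19]

def Tb : List Nat := [6, 0, 18, 2, 13, 15, 1, 23, 4, 16, 14, 10, 9, 8, 11, 21, 12, 19, 3, 22, 7, 5, 17, 20]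

def Tbi : List Nat := [1, 6, 3, 18, 8, 21, 0, 20, 13, 12, 11, 14, 16, 4, 10, 5, 9, 22, 2, 17, 23, 15, 19, 7]

def Dm : Nat := 1

def relsL : List (List Nat) :=
  [[0, 0],
  [2, 2, 2],
  [0, 2, 0, 2, 0, 2, 0, 2, 0, 2, 0, 2, 0, 2, 0, 2, 0, 2, 0, 2, 0, 2],
  [1, 3, 0, 2, 1, 3, 0, 2, 1, 3, 0, 2, 1, 3, 0, 2, 1, 3, 0, 2, 1, 3, 0, 2],
  [0, 2, 0, 2, 0, 3, 0, 2, 0, 2, 0, 3, 0, 2, 0, 2, 0, 3, 0, 2, 0, 2, 0, 3, 0, 2, 0, 2, 0, 3, 0, 2, 0, 2, 0, 3]]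

def CAL : List (List Nat × List Nat) := [([2, 0, 2, 0, 3, 0, 3, 0, 2, 0, 3, 0, 2, 0, 2], [3, 0, 3, 0, 3, 0, 2, 0, 3, 0, 3, 0, 2, 0, 3, 0, 2, 0])]

def CBL : List (List Nat × List Nat) := [([0, 2, 0, 2, 0, 2, 0, 3], [0, 3, 0, 3, 0, 2, 0, 3, 0, 3, 0, 3, 0, 2, 0, 2, 0, 2, 0])]

def nC : Nat := 12

def twN : Nat := 0x64447000000044447000000004446000000006445000000004445000000000444000000000643000000000443000000000042000000000041000000000001000000000000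

def parN : Nat := 0x13809803801b00d004001e00e0040008000000

def dmN : Nat := 0x100000010002000010000001000000200040000000008000004000002000040000001

def tabN : Nat := 0x140240580b01202c0500a0160280380700e0180400800c0200480901001c0200400800c028050060140300600a01001002000004018030040000000000200800801

def tmN : Nat := 0x8a6993

def basisL : List (Nat × Nat) :=
  [(0, 0), (0, 1), (1, 4), (2, 0), (3, 1), (4, 0), (4, 5), (4, 6), (5, 0), (5, 5), (6, 1), (6, 5), (7, 0), (7, 6), (9, 1), (10, 5), (10, 6)]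

def slpP : List (Nat × Nat) :=
  [(0, 0), (1, 0), (0, 3), (1, 4), (1, 5), (0, 6), (1, 7), (1, 8), (0, 9), (1, 10), (1, 11), (1, 3), (4, 1), (6, 13), (13, 1), (15, 1), (5, 1), (14, 1), (17, 18), (1, 1), (14, 14), (14, 22), (14, 23), (14, 13), (14, 25), (14, 26), (14, 27), (14, 28), (0, 21), (20, 1), (30, 31), (27, 32), (33, 33), (33, 34), (19, 20), (7, 21), (37, 21), (38, 0), (39, 21), (40, 36), (14, 41), (34, 42), (43, 33), (43, 35), (33, 44), (43, 44), (33, 45), (43, 46), (43, 43), (43, 50), (36, 14), (40, 52), (29, 53), (35, 51), (55, 54), (50, 56), (57, 43), (57, 50), (43, 58), (43, 59), (57, 59), (57, 57), (57, 63), (16, 52), (65, 19), (37, 66), (24, 67), (49, 68), (43, 69), (70, 57), (70, 63), (70, 64), (51, 73), (26, 74), (3, 75), (51, 71), (45, 77), (29, 78), (4, 79), (60, 70), (46, 81), (23, 82), (6, 83), (50, 73), (49, 85), (23, 86), (12, 87),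 (43, 63), (46, 89), (26, 90), (0, 91), (44, 43), (13, 93), (11, 94), (49, 72), (28, 96), (7, 97), (34, 56), (22, 99), (9, 100), (60, 73), (46, 102), (14, 103), (10, 104), (59, 63), (45, 106), (28, 107), (8, 108), (60, 63), (49, 110), (5, 111), (59, 57), (48, 113), (14, 114), (62, 70), (33, 116), (13, 117), (46, 106), (24, 119), (60, 71), (35, 121), (25, 122), (47, 60), (28, 124), (45, 57), (22, 126), (34, 71), (29, 128), (50, 64), (48, 130), (23, 131), (61, 57), (44, 133), (27, 134), (61, 70), (33, 136), (26, 137), (43, 70), (33, 139), (62, 71), (44, 141), (58, 72), (35, 143), (49, 130), (60, 64), (34, 146), (45, 71), (43, 57), (47, 149), (46, 113), (48, 143), (58, 57), (51, 63)]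

def BB : Nat := 16384

def j0 : Nat := 4

def cert2 : List (Nat × Bool × List (Nat × Nat × Nat)) :=
  [(2, false, [(0, 0, 2), (0, 0, 11), (1, 9, 0), (0, 0, 4), (1, 0, 1), (0, 5, 0), (0, 3, 0), (0, 0, 2), (0, 7, 0), (0, 1, 0), (0, 0, 10), (0, 0, 5), (0, 8, 0)]),
   (3, true, [(0, 17, 0), (0, 70, 0), (0, 1, 0), (0, 0, 62), (0, 22, 0), (0, 0, 3), (0, 8, 0), (0, 0, 30), (0, 0, 19), (0, 15, 0), (0, 0, 41), (0, 0, 8), (0, 67, 0), (0, 32, 0), (0, 0, 51), (0, 2, 0), (0, 3, 0)]),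
   (5, false, [(0, 3, 0), (0, 24, 0), (1, 0, 23), (0, 11, 0), (1, 1, 0), (0, 0, 15), (0, 0, 6), (0, 4, 0), (0, 0, 18), (0, 0, 3), (0, 26, 0), (0, 11, 0), (0, 0, 17), (0, 0, 1), (0, 2, 0)]),
   (6, false, [(0, 0, 3), (0, 0, 11), (1, 10, 0), (0, 0, 4), (1, 0, 1), (0, 5, 0), (0, 3, 0), (0, 0, 2), (0, 7, 0), (0, 1, 0), (0, 0, 10), (0, 0, 5), (0, 8, 0)]),
   (9, true, [(0, 20, 0), (0, 93, 0), (0, 1, 0), (0, 0, 85), (0, 34, 0), (0, 0, 3), (0, 9, 0), (0, 0, 45), (0, 0, 25), (0, 19, 0), (0, 0, 59), (0, 0, 11), (0, 93, 0), (0, 43, 0), (0, 0, 68), (0, 1, 0), (0, 5, 0)]),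
   (10, true, [(0, 17, 0), (0, 59, 0), (0, 1, 0), (0, 0, 49), (0, 17, 0), (0, 0, 3), (0, 8, 0), (0, 0, 21), (0, 0, 17), (0, 13, 0), (0, 0, 33), (0, 0, 6), (0, 52, 0), (0, 27, 0), (0, 0, 43), (0, 2, 0)]),
   (12, false, [(0, 0, 3), (0, 0, 11), (1, 9, 0), (0, 0, 4), (0, 1, 0), (0, 0, 1), (0, 5, 0), (0, 3, 0), (0, 0, 2), (0, 7, 0), (0, 1, 0), (0, 0, 10), (0, 0, 5), (0, 8, 0)]),
   (15, true, [(0, 20, 0), (0, 93, 0), (0, 1, 0), (0, 0, 85), (0, 33, 0), (0, 0, 3), (0, 9, 0), (0, 0, 45), (0, 0, 25), (0, 19, 0), (0, 0, 58), (0, 0, 11), (0, 93, 0), (0, 43, 0), (0, 0, 68), (0, 1, 0), (0, 5, 0)]),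
   (16, true, [(0, 22, 0), (0, 83, 0), (0, 1, 0), (0, 0, 73), (0, 29, 0), (0, 0, 5), (0, 10, 0), (0, 0, 35), (0, 0, 25), (0, 18, 0), (0, 0, 52), (0, 0, 11), (0, 81, 0), (0, 39, 0), (0, 0, 60), (1, 2, 0)]),
   (18, false, [(0, 0, 3), (0, 0, 11), (1, 9, 0), (0, 0, 4), (1, 0, 1), (0, 5, 0), (0, 3, 0), (0, 0, 2), (0, 7, 0), (0, 1, 0), (0, 0, 9), (0, 0, 5), (0, 8, 0)]),
   (20, true, [(0, 22, 0), (0, 89, 0), (0, 1, 0), (0, 0, 80), (0, 32, 0), (0, 0, 5), (0, 10, 0), (0, 0, 40), (0, 0, 26), (0, 19, 0), (0, 0, 56), (0, 0, 12), (0, 89, 0), (0, 42, 0), (0, 0, 65), (1, 4, 0)]),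
   (21, true, [(0, 20, 0), (0, 93, 0), (0, 1, 0), (0, 0, 85), (0, 33, 0), (0, 0, 3), (0, 9, 0), (0, 0, 45), (0, 0, 25), (0, 19, 0), (0, 0, 59), (0, 0, 11), (0, 93, 0), (0, 43, 0), (0, 0, 67), (0, 1, 0), (0, 5, 0)]),
   (22, true, [(0, 17, 0), (0, 63, 0), (0, 1, 0), (0, 0, 54), (0, 19, 0), (0, 0, 3), (0, 8, 0), (0, 0, 24), (0, 0, 18), (0, 14, 0), (0, 0, 36), (0, 0, 7), (0, 58, 0), (0, 29, 0), (0, 0, 46), (0, 2, 0), (0, 1, 0)])]

def lam2 : List (Nat × Nat × Nat) :=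
  [(0, 0, 41), (0, 0, 157), (0, 0, 2), (0, 137, 0), (0, 0, 52), (0, 8, 0), (0, 0, 19), (0, 65, 0), (0, 46, 0), (0, 0, 34), (0, 95, 0), (0, 19, 0), (0, 0, 150), (0, 0, 73), (0, 114, 0), (0, 0, 2), (0, 0, 4)]

end Cfsg.Agent.Helper17.SchurCos.M12
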