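/-! Data for the Schur multiplier criterion (helper17, generated). -/

set_option autoImplicit false

namespace Cfsg.Agent.Helper17.SchurCos.M24

def Ta : List Nat := [18, 3, 7, 1, 19, 15, 22, 2, 14, 21, 11, 10, 17, 23, 8, 5, 20, 12, 0, 4, 16, 9, 6, 13]

def Tai : List Nat := [18, 3, 7, 1, 19, 15, 22, 2, 14, 21, 11, 10, 17, 23, 8, 5, 20, 12, 0, 4, 16, 9, 6, 13]

def Tb : List Nat := [20, 23, 2, 3, 0, 15, 18, 16, 7, 9, 6, 11, 12, 13, 17, 22, 8, 21, 10, 1, 4, 14, 5, 19]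

def Tbi : List Nat := [4, 19, 2, 3, 20, 22, 10, 8, 16, 9, 18, 11, 12, 13, 21, 5, 7, 14, 6, 23, 0, 17, 15, 1]

def W1L : List Nat := [3, 1, 2, 1, 2, 1, 2, 0, 3, 0, 3, 0, 2, 1, 2, 0, 3, 1, 2, 1, 3, 1, 3, 1, 2, 0, 2, 0, 2, 0, 3, 0, 2]

def W2L : List Nat := [3, 1, 2, 1, 2, 1, 3, 0, 3, 0, 3, 0, 2, 3, 1, 3, 1, 3, 1, 2, 0, 2, 0, 2, 0, 2, 2, 1, 3, 0, 3]

def Dm : Nat := 8388608

def relsL : List (List Nat) :=
  [[0, 0],
  [2, 2, 2],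
  [0, 2, 0, 2, 0, 2, 0, 2, 0, 2, 0, 2, 0, 2, 0, 2, 0, 2, 0, 2, 0, 2, 0, 2, 0, 2, 0, 2, 0, 2, 0, 2, 0, 2, 0, 2, 0, 2, 0, 2, 0, 2, 0, 2, 0, 2],
  [1, 3, 0, 2, 1, 3, 0, 2, 1, 3, 0, 2, 1, 3, 0, 2, 1, 3, 0, 2, 1, 3, 0, 2, 1, 3, 0, 2, 1, 3, 0, 2, 1, 3, 0, 2, 1, 3, 0, 2, 1, 3, 0, 2, 1, 3, 0, 2],
  [1, 3, 1, 3, 0, 2, 0, 2, 1, 3, 1, 3, 0, 2, 0, 2, 1, 3, 1, 3, 0, 2, 0, 2, 1, 3, 1, 3, 0, 2, 0, 2, 1, 3, 1, 3, 0, 2, 0, 2],
  [0, 2, 0, 2, 0, 3, 0, 2, 0, 2, 0, 3, 0, 2, 0, 2, 0, 3, 0, 2, 0, 3, 0, 3, 0, 2, 0, 3, 0, 3, 0, 2, 0, 3, 0, 3],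
  [0, 2, 0, 2, 0, 3, 0, 2, 0, 3, 0, 2, 0, 3, 0, 2, 0, 2, 0, 3, 0, 2, 0, 3, 0, 2, 0, 3, 0, 2, 0, 2, 0, 3, 0, 2, 0, 3, 0, 2, 0, 3, 0, 2, 0, 2, 0, 3, 0, 2, 0, 3, 0, 2, 0, 3]]

def CAL : List (List Nat × List Nat) := [([3, 0, 3, 0, 2, 0, 2, 0, 2, 0, 3, 0, 2], [0, 2, 0, 3, 0, 2, 0, 3]), ([2, 0, 3, 0, 2, 0, 3, 0, 3, 0, 3, 0, 3], [3, 0, 3, 0, 2, 0, 2, 0, 2, 0, 2, 0, 2, 0])]

def CBL : List (List Nat × List Nat) := [([0, 3, 0, 2, 0, 3, 0, 2, 0, 3, 0, 2, 0], [3]), ([2], [0, 3, 0, 2, 0, 3, 0, 2, 0, 3, 0, 2, 0])]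

def nC : Nat := 24

def twN : Nat := 0x66468000000046468000000064667000000044667000000066467000000046467000000006666000000004666000000006466000000004466000000006665000000004665000000006465000000004465000000000664000000000464000000000663000000000463000000000062000000000042000000000061000000000041000000000001000000000000

def parN : Nat := 0x26012008604201f80f806803001600a004e026011808803801800b80580180080018008000000

def dmN : Nat := 0x1000000200000020008000020000200000000800400000004000000004000400000040000100000080040000010000000001100000000010000008080000000002002000800000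

def tabN : Nat := 0x2e05c0981302c058090120280400a0140200540a81502403c0b81701e04c0b0160220440680d02a0500600c0260480580b01c0380500a01802408811012034080100140200780f01002c0700e01a030038070160280300600c0140480900a01c0400800e01801803008010010020040000280500000c020040020040000000600800801

def tmN : Nat := 0x8d28ddad8d3

def basisL : List (Nat × Nat) :=
  [(0, 0), (0, 1), (0, 3), (0, 5), (1, 1), (1, 6), (2, 0), (3, 0), (4, 4), (5, 1), (6, 0), (7, 0), (8, 1), (9, 1), (10, 0), (10, 5), (11, 0), (12, 0), (12, 5), (13, 0), (13, 7), (13, 8), (15, 1), (16, 1), (16, 8), (18, 0), (19, 0), (20, 0), (20, 8), (21, 2), (22, 8), (23, 8)]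

def slpP : List (Nat × Nat) :=
  []

def BB : Nat := 8192

end Cfsg.Agent.Helper17.SchurCos.M24
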